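import Groth.Agent.L21.Mod.Stalks
import Mathlib.Topology.Sheaves.SheafCondition.Sites

/-!
# Morphisms of modules given on affine opens
-/

set_option autoImplicit false
universe u

open CategoryTheory CategoryTheory.Limits AlgebraicGeometry TopologicalSpace Opposite

noncomputable section

namespace Groth.L16.AffineBC

variable {X : Scheme.{u}} {M N : X.Modules}

theorem isBasis_affine : Opens.IsBasis (Set.range fun U : X.affineOpens => (U : X.Opens)) := by
  rw [Subtype.range_coe]; exact X.isBasis_affineOpens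

/-- Morphisms are determined on affine opens. -/
theorem hom_ext_affine (φ ψ : M ⟶ N)
    (h : ∀ U : X.Opens, IsAffineOpen U → ∀ m, φ.app U m = ψ.app U m) : φ = ψ := by
  have h1 : φ.mapPresheaf = ψ.mapPresheaf :=
    TopCat.Sheaf.hom_ext M.presheaf ⟨N.presheaf, N.isSheaf⟩ isBasis_affine fun U => by
      ext m
      exact h U.1 U.2 m
  apply Scheme.Modules.hom_ext
  intro V
  ext s
  exact ConcreteCategory.congr_hom (NatTrans.congr_app h1 (op V)) s

/-- A morphism given compatibly on affine opens. -/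
theorem exists_hom_affine (φ : ∀ U : X.Opens, IsAffineOpen U → (Γ(M, U) →+ Γ(N, U)))
    (hnat : ∀ (U V : X.Opens) (hU : IsAffineOpen U) (hV : IsAffineOpen V) (h : V ≤ U) (m : Γ(M, U)),
      φ V hV (M.presheaf.map (homOfLE h).op m) = N.presheaf.map (homOfLE h).op (φ U hU m))
    (hsmul : ∀ (U : X.Opens) (hU : IsAffineOpen U) (r : Γ(X, U)) (m : Γ(M, U)), φ U hU (r • m) = r • φ U hU m) :
    ∃ Φ : M ⟶ N, ∀ (U : X.Opens) (hU : IsAffineOpen U) (m : Γ(M, U)), Φ.app U m = φ U hU m := by
  let B := fun U : X.affineOpens => (U : X.Opens)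
  have hB : Opens.IsBasis (Set.range B) := isBasis_affine
  let α : (inducedFunctor B).op ⋙ M.presheaf ⟶ (inducedFunctor B).op ⋙ N.presheaf :=
    { app := fun p => AddCommGrpCat.ofHom (φ p.unop.1 p.unop.2)
      naturality := fun p q g => by
        ext m
        exact hnat _ _ p.unop.2 q.unop.2 g.unop.hom.le m }
  let Φ₀ : M.presheaf ⟶ N.presheaf :=
    TopCat.Sheaf.restrictHomEquivHom M.presheaf ⟨N.presheaf, N.isSheaf⟩ hB α
  have hΦ₀ : ∀ (U : X.Opens) (hU : IsAffineOpen U) (m : Γ(M, U)), Φ₀.app (op U) m = φ U hU m := fun U hU m =>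
    ConcreteCategory.congr_hom (TopCat.Sheaf.extend_hom_app M.presheaf ⟨N.presheaf, N.isSheaf⟩ hB α ⟨U, hU⟩) m
  have hlin : ∀ (V : (Opens X)ᵒᵖ) (r : X.ringCatSheaf.obj.obj V) (s : M.val.obj V),
      Φ₀.app V (r • s) = r • (show N.val.obj V from Φ₀.app V s) := by
    intro V r s
    refine TopCat.Presheaf.section_ext ((Groth.L21.Mod.toAbSh X).obj N) V.unop _ _ fun x hx => ?_
    obtain ⟨_, ⟨W, hW, rfl⟩, hxW, hWV⟩ := X.isBasis_affineOpens.exists_subset_of_mem_open (a := x) hx V.unop.2
    change X.Opens at W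
    replace hW : IsAffineOpen W := hW
    have hWV' : W ≤ V.unop := hWV
    show N.presheaf.germ V.unop x hx _ = N.presheaf.germ V.unop x hx _
    rw [← N.presheaf.germ_res_apply (homOfLE hWV') x hxW, ← N.presheaf.germ_res_apply (homOfLE hWV') x hxW]
    congr 1
    have n1 : ∀ t, N.presheaf.map (homOfLE hWV').op (Φ₀.app V t) =
        Φ₀.app (op W) (M.presheaf.map (homOfLE hWV').op t) := fun t =>
      (ConcreteCategory.congr_hom (Φ₀.naturality (homOfLE hWV').op) t).symm
    refine (n1 (r • s)).trans ?_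
    refine Eq.trans ?_ (Scheme.Modules.map_smul N (homOfLE hWV') r (Φ₀.app V s)).symm
    rw [n1, hΦ₀ W hW, hΦ₀ W hW, ← hsmul W hW]
    exact congrArg _ (Scheme.Modules.map_smul M (homOfLE hWV') r s)
  exact ⟨⟨PresheafOfModules.homMk Φ₀ hlin⟩, fun U hU m => hΦ₀ U hU m⟩

end Groth.L16.AffineBC
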