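import Groth.Agent.L20.ModPullback
import Groth.Agent.L17.ClosedPush
import Groth.Agent.L18.TildeFunctor
import Groth.Agent.L16.CohClosedPush
import Mathlib.RingTheory.LocalProperties.Exactness

/-!
# Sections of pullbacks of quasi-coherent modules on affine opens
-/

set_option autoImplicit false
set_option linter.style.haveILetI false

universe u

open CategoryTheory CategoryTheory.Limits AlgebraicGeometry TopologicalSpace Opposite
open scoped TensorProduct

noncomputable section

namespace Groth.L16.AffineBC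

open Groth.L18.Frame (rs ro pull rs_smul pull_smul)
open Groth.L20.ModStalk (stalkModule germₗ isLocalizedModule_germ)

variable {X Y : Scheme.{u}}

/-- The pullback of a quasi-coherent module is quasi-coherent. -/
theorem isQCoh_pullback (f : X ⟶ Y) (G : Y.Modules) [Coh.IsQCoh G] :
    Coh.IsQCoh ((Scheme.Modules.pullback f).obj G) := by
  refine Groth.L00.Local.isQCoh_of_tilde_charts _ fun x => ?_
  obtain ⟨_, ⟨V, hV, rfl⟩, hxV, -⟩ :=
    Y.isBasis_affineOpens.exists_subset_of_mem_open (Set.mem_univ (f x)) isOpen_univ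
  obtain ⟨_, ⟨U, hU, rfl⟩, hxU, hUV⟩ :=
    X.isBasis_affineOpens.exists_subset_of_mem_open (a := x) (show x ∈ f ⁻¹ᵁ V from hxV) (f ⁻¹ᵁ V).2
  obtain ⟨N, ⟨e⟩⟩ := Groth.L00.Local.exists_tilde_iso_restrict hV.fromSpec G
  let φ := f.appLE V U hUV
  refine ⟨_, hU.fromSpec, inferInstance, (ModuleCat.extendScalars φ.hom).obj N,
    hU.opensRange_fromSpec.ge hxU, ⟨?_⟩⟩
  exact (Scheme.Modules.restrictFunctorIsoPullback hU.fromSpec).app _ ≪≫
    (Scheme.Modules.pullbackComp hU.fromSpec f).app G ≪≫
    (Scheme.Modules.pullbackCongr (hV.SpecMap_appLE_fromSpec f hU hUV).symm).app G ≪≫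
    (Scheme.Modules.pullbackComp (Spec.map φ) hV.fromSpec).symm.app G ≪≫
    (Scheme.Modules.pullback (Spec.map φ)).mapIso
      ((Scheme.Modules.restrictFunctorIsoPullback hV.fromSpec).symm.app G ≪≫ e) ≪≫
    (Groth.L18.TildeF.pullbackTildeIso φ).app N

theorem exists_point {U : X.Opens} (hU : IsAffineOpen U) (P : Ideal Γ(X, U)) [P.IsMaximal] :
    ∃ (x : X) (hx : x ∈ U), (hU.primeIdealOf ⟨x, hx⟩).asIdeal = P := by
  let q : Spec Γ(X, U) := ⟨P, inferInstance⟩
  have hx : hU.fromSpec q ∈ U := hU.opensRange_fromSpec.le ⟨q, rfl⟩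
  refine ⟨_, hx, ?_⟩
  rw [hU.fromSpec.isOpenEmbedding.injective (hU.fromSpec_primeIdealOf ⟨hU.fromSpec q, hx⟩)]

/-- Sections of an epimorphism of quasi-coherent modules on affine opens are surjective. -/
theorem surjective_app_of_epi {M N : X.Modules} [Coh.IsQCoh M] [Coh.IsQCoh N] (φ : M ⟶ N) [Epi φ]
    {U : X.Opens} (hU : IsAffineOpen U) : Function.Surjective (φ.app U) := by
  classical
  let R := Γ(X, U)
  let F : Γ(M, U) →ₗ[R] Γ(N, U) :=
    { toFun := fun m => φ.app U m
      map_add' := fun a b => map_add _ a b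
      map_smul' := fun a m => φ.app_smul a m }
  choose x hx hP using fun (P : Ideal R) (_ : P.IsMaximal) => exists_point hU P
  have tr : ∀ (I J : Ideal R) [I.IsPrime] [J.IsPrime], I = J → ∀ (A : Type u) [AddCommGroup A] [Module R A]
      (K : X.Modules) (l : Γ(K, U) →ₗ[R] A), IsLocalizedModule I.primeCompl l →
      IsLocalizedModule J.primeCompl l := by
    rintro I J _ _ rfl A _ _ K l h; exact h
  letI (P : Ideal R) [h : P.IsMaximal] : Module R (M.presheaf.stalk (x P h)) := stalkModule M (hx P h)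
  letI (P : Ideal R) [h : P.IsMaximal] : Module R (N.presheaf.stalk (x P h)) := stalkModule N (hx P h)
  haveI hLM (P : Ideal R) [h : P.IsMaximal] : IsLocalizedModule P.primeCompl (germₗ M (hx P h)) :=
    tr _ P (hP P h) _ M _ (isLocalizedModule_germ M hU (hx P h))
  haveI hLN (P : Ideal R) [h : P.IsMaximal] : IsLocalizedModule P.primeCompl (germₗ N (hx P h)) :=
    tr _ P (hP P h) _ N _ (isLocalizedModule_germ N hU (hx P h))
  refine surjective_of_isLocalized_maximal _ (fun P h => germₗ M (hx P h)) _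
    (fun P h => germₗ N (hx P h)) F fun P h => ?_
  intro t
  obtain ⟨s, hs⟩ := (Groth.L21.Mod.epi_iff_stalk_surjective φ).1 ‹Epi φ› (x P h) t
  let Φ : M.presheaf.stalk (x P h) →ₗ[R] N.presheaf.stalk (x P h) :=
    { toFun := fun m => (Groth.L00.Stk.F X (x P h)).map φ m
      map_add' := fun a b => map_add _ a b
      map_smul' := fun a m => ((Groth.L00.Stk.F X (x P h)).map φ).hom.map_smul _ m }
  have : IsLocalizedModule.map P.primeCompl (germₗ M (hx P h)) (germₗ N (hx P h)) F = Φ := by
    apply IsLocalizedModule.linearMap_ext P.primeCompl (germₗ M (hx P h)) (germₗ N (hx P h))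
    ext m
    simp only [LinearMap.comp_apply, IsLocalizedModule.map_apply]
    exact (Groth.L21.Mod.stalkF_map_germ φ U (x P h) (hx P h) m).symm
  exact ⟨s, by rw [this]; exact hs⟩

variable (f : X ⟶ Y) (G : Y.Modules) {V : Y.Opens} {U : X.Opens}

/-- Pullback of sections, as a map of modules over the sections of the target. -/
def pullRes (e : U ≤ f ⁻¹ᵁ V) :
    letI := Module.compHom Γ((Scheme.Modules.pullback f).obj G, U) (f.appLE V U e).hom
    Γ(G, V) →ₗ[Γ(Y, V)] Γ((Scheme.Modules.pullback f).obj G, U) :=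
  letI := Module.compHom Γ((Scheme.Modules.pullback f).obj G, U) (f.appLE V U e).hom
  { toFun := fun m => rs _ e (pull f G V m)
    map_add' := fun a b => (congrArg (rs _ e) (map_add
      (((Scheme.Modules.pullbackPushforwardAdjunction f).unit.app G).app V).hom a b)).trans (map_add _ _ _)
    map_smul' := fun a m => by
      rw [pull_smul, rs_smul]
      rfl }

/-- The stalk of the pullback is the base change along the germ of the pulled back sections. -/
theorem isBaseChange_germ_pull [Coh.IsQCoh G] (hV : IsAffineOpen V) (e : U ≤ f ⁻¹ᵁ V) {x : X} (hx : x ∈ U) :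
    letI : Algebra Γ(Y, V) (X.presheaf.stalk x) :=
      ((X.presheaf.germ U x hx).hom.comp (f.appLE V U e).hom).toAlgebra
    letI : Module Γ(Y, V) (((Scheme.Modules.pullback f).obj G).presheaf.stalk x) :=
      Module.compHom _ ((X.presheaf.germ U x hx).hom.comp (f.appLE V U e).hom)
    haveI : IsScalarTower Γ(Y, V) (X.presheaf.stalk x) (((Scheme.Modules.pullback f).obj G).presheaf.stalk x) :=
      IsScalarTower.of_algebraMap_smul fun _ _ => rfl
    ∀ g : Γ(G, V) →ₗ[Γ(Y, V)] ((Scheme.Modules.pullback f).obj G).presheaf.stalk x,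
      (∀ m, g m = ((Scheme.Modules.pullback f).obj G).presheaf.germ U x hx (rs _ e (pull f G V m))) →
        IsBaseChange (X.presheaf.stalk x) g := by
  set P := (Scheme.Modules.pullback f).obj G
  have hfx : f x ∈ V := e hx
  have halg : (X.presheaf.germ U x hx).hom.comp (f.appLE V U e).hom =
      (f.stalkMap x).hom.comp (Y.presheaf.germ V (f x) hfx).hom := by
    ext a
    show X.presheaf.germ U x hx (f.appLE V U e a) = _
    refine (TopCat.Presheaf.germ_res_apply X.presheaf (homOfLE e) x hx (f.app V a)).trans ?_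
    exact (Scheme.Hom.germ_stalkMap_apply f V x hfx a).symm
  letI : Algebra Γ(Y, V) (X.presheaf.stalk x) :=
    ((X.presheaf.germ U x hx).hom.comp (f.appLE V U e).hom).toAlgebra
  letI : Module Γ(Y, V) (P.presheaf.stalk x) :=
    Module.compHom _ ((X.presheaf.germ U x hx).hom.comp (f.appLE V U e).hom)
  haveI : IsScalarTower Γ(Y, V) (X.presheaf.stalk x) (P.presheaf.stalk x) :=
    IsScalarTower.of_algebraMap_smul fun _ _ => rfl
  intro g hg
  letI : Algebra (Y.presheaf.stalk (f x)) (X.presheaf.stalk x) := (f.stalkMap x).hom.toAlgebra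
  letI := Y.presheaf.algebra_section_stalk ⟨f x, hfx⟩
  haveI := hV.isLocalization_stalk ⟨f x, hfx⟩
  haveI : IsScalarTower Γ(Y, V) (Y.presheaf.stalk (f x)) (X.presheaf.stalk x) :=
    IsScalarTower.of_algebraMap_eq fun a => RingHom.congr_fun halg a
  letI : Module (Y.presheaf.stalk (f x)) (P.presheaf.stalk x) := Module.compHom _ (f.stalkMap x).hom
  haveI : IsScalarTower (Y.presheaf.stalk (f x)) (X.presheaf.stalk x) (P.presheaf.stalk x) :=
    IsScalarTower.of_algebraMap_smul fun _ _ => rfl
  haveI : IsScalarTower Γ(Y, V) (Y.presheaf.stalk (f x)) (P.presheaf.stalk x) :=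
    IsScalarTower.of_algebraMap_smul fun a m => congrArg (· • m) (RingHom.congr_fun halg a).symm
  letI := stalkModule G hfx
  haveI : IsScalarTower Γ(Y, V) (Y.presheaf.stalk (f x)) (G.presheaf.stalk (f x)) :=
    IsScalarTower.of_algebraMap_smul fun _ _ => rfl
  haveI := isLocalizedModule_germ G hV hfx
  have h1 : IsBaseChange (Y.presheaf.stalk (f x)) (germₗ G hfx) :=
    IsLocalizedModule.isBaseChange (hV.primeIdealOf ⟨f x, hfx⟩).asIdeal.primeCompl _ _
  let ε : P.presheaf.stalk x ≃ₗ[X.presheaf.stalk x]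
      X.presheaf.stalk x ⊗[Y.presheaf.stalk (f x)] G.presheaf.stalk (f x) :=
    ((Groth.L00.PullStalk.stalkIso f x).app G).toLinearEquiv
  let g₂ : G.presheaf.stalk (f x) →ₗ[Y.presheaf.stalk (f x)] P.presheaf.stalk x :=
    (ε.symm.toLinearMap.restrictScalars (Y.presheaf.stalk (f x))) ∘ₗ
      TensorProduct.mk (Y.presheaf.stalk (f x)) (X.presheaf.stalk x) (G.presheaf.stalk (f x)) 1
  have h2 : IsBaseChange (X.presheaf.stalk x) g₂ := IsBaseChange.of_equiv ε.symm fun m => rfl
  have key : g = (g₂.restrictScalars Γ(Y, V)).comp (germₗ G hfx) := by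
    ext m
    refine (hg m).trans ?_
    refine (Groth.L20.ModStalk.germ_rs P e hx _).trans ?_
    apply ε.injective
    refine Eq.trans ?_ (ε.apply_symm_apply _).symm
    exact Groth.L17.ClosedPush.stalkIso_unit_germ f G x hfx m
  rw [key]
  exact h1.comp h2

/-- Sections of the pullback over an affine open are the base change of the sections. -/
theorem isBaseChange_pull [Coh.IsQCoh G] (hV : IsAffineOpen V) (hU : IsAffineOpen U) (e : U ≤ f ⁻¹ᵁ V) :
    letI : Algebra Γ(Y, V) Γ(X, U) := (f.appLE V U e).hom.toAlgebra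
    letI := Module.compHom Γ((Scheme.Modules.pullback f).obj G, U) (f.appLE V U e).hom
    haveI : IsScalarTower Γ(Y, V) Γ(X, U) Γ((Scheme.Modules.pullback f).obj G, U) :=
      IsScalarTower.of_algebraMap_smul fun _ _ => rfl
    IsBaseChange Γ(X, U) (pullRes f G e) := by
  classical
  set P := (Scheme.Modules.pullback f).obj G
  haveI : Coh.IsQCoh P := isQCoh_pullback f G
  letI : Algebra Γ(Y, V) Γ(X, U) := (f.appLE V U e).hom.toAlgebra
  letI := Module.compHom Γ(P, U) (f.appLE V U e).hom
  haveI : IsScalarTower Γ(Y, V) Γ(X, U) Γ(P, U) := IsScalarTower.of_algebraMap_smul fun _ _ => rfl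
  let L := Γ(X, U) ⊗[Γ(Y, V)] Γ(G, V)
  let ω : L →ₗ[Γ(X, U)] Γ(P, U) := LinearMap.liftBaseChange Γ(X, U) (pullRes f G e)
  suffices hω : Function.Bijective ω from
    IsBaseChange.of_equiv (LinearEquiv.ofBijective ω hω) fun m =>
      (LinearMap.liftBaseChange_tmul _ _ _ _).trans (one_smul _ _)
  choose x hx hP using fun (J : Ideal Γ(X, U)) (_ : J.IsMaximal) => exists_point hU J
  letI (J : Ideal Γ(X, U)) [h : J.IsMaximal] : Module Γ(X, U) (P.presheaf.stalk (x J h)) :=
    stalkModule P (hx J h)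
  have tr : ∀ (I J : Ideal Γ(X, U)) [I.IsPrime] [J.IsPrime], I = J → ∀ (A : Type u) [AddCommGroup A]
      [Module Γ(X, U) A] (l : Γ(P, U) →ₗ[Γ(X, U)] A), IsLocalizedModule I.primeCompl l →
      IsLocalizedModule J.primeCompl l := by
    rintro I J _ _ rfl A _ _ l h; exact h
  have tr' : ∀ (I J : Ideal Γ(X, U)) [I.IsPrime] [J.IsPrime], I = J → ∀ (A : Type u) [CommRing A]
      [Algebra Γ(X, U) A], IsLocalization.AtPrime A I → IsLocalization.AtPrime A J := by
    rintro I J _ _ rfl A _ _ h; exact h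
  haveI hLP (J : Ideal Γ(X, U)) [h : J.IsMaximal] : IsLocalizedModule J.primeCompl (germₗ P (hx J h)) :=
    tr _ J (hP J h) _ _ (isLocalizedModule_germ P hU (hx J h))
  haveI hLL (J : Ideal Γ(X, U)) [h : J.IsMaximal] :
      IsLocalizedModule J.primeCompl ((germₗ P (hx J h)).comp ω) := by
    letI := X.presheaf.algebra_section_stalk ⟨x J h, hx J h⟩
    haveI : IsLocalization.AtPrime (X.presheaf.stalk (x J h)) J :=
      tr' _ J (hP J h) _ (hU.isLocalization_stalk ⟨x J h, hx J h⟩)
    haveI : IsScalarTower Γ(X, U) (X.presheaf.stalk (x J h)) (P.presheaf.stalk (x J h)) :=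
      IsScalarTower.of_algebraMap_smul fun _ _ => rfl
    letI : Algebra Γ(Y, V) (X.presheaf.stalk (x J h)) :=
      ((X.presheaf.germ U (x J h) (hx J h)).hom.comp (f.appLE V U e).hom).toAlgebra
    haveI : IsScalarTower Γ(Y, V) Γ(X, U) (X.presheaf.stalk (x J h)) :=
      IsScalarTower.of_algebraMap_eq fun _ => rfl
    letI : Module Γ(Y, V) (P.presheaf.stalk (x J h)) :=
      Module.compHom _ ((X.presheaf.germ U (x J h) (hx J h)).hom.comp (f.appLE V U e).hom)
    haveI : IsScalarTower Γ(Y, V) (X.presheaf.stalk (x J h)) (P.presheaf.stalk (x J h)) :=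
      IsScalarTower.of_algebraMap_smul fun _ _ => rfl
    haveI : IsScalarTower Γ(Y, V) Γ(X, U) (P.presheaf.stalk (x J h)) :=
      IsScalarTower.of_algebraMap_smul fun _ _ => rfl
    rw [isLocalizedModule_iff_isBaseChange (S := J.primeCompl) (A := X.presheaf.stalk (x J h))]
    refine IsBaseChange.of_comp (TensorProduct.isBaseChange Γ(Y, V) Γ(G, V) Γ(X, U)) ?_
    refine isBaseChange_germ_pull f G hV e (hx J h) _ fun m => ?_
    show germₗ P (hx J h) (ω ((1 : Γ(X, U)) ⊗ₜ[Γ(Y, V)] m)) = _
    rw [show ω ((1 : Γ(X, U)) ⊗ₜ[Γ(Y, V)] m) = pullRes f G e m from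
      (LinearMap.liftBaseChange_tmul _ _ _ _).trans (one_smul _ _)]
    rfl
  refine bijective_of_isLocalized_maximal _ (fun J h => (germₗ P (hx J h)).comp ω) _
    (fun J h => germₗ P (hx J h)) ω fun J h => ?_
  have : IsLocalizedModule.map J.primeCompl ((germₗ P (hx J h)).comp ω) (germₗ P (hx J h)) ω = LinearMap.id := by
    apply IsLocalizedModule.linearMap_ext J.primeCompl ((germₗ P (hx J h)).comp ω) (germₗ P (hx J h))
    ext l
    simp only [LinearMap.comp_apply, LinearMap.id_apply]
    exact IsLocalizedModule.map_apply J.primeCompl ((germₗ P (hx J h)).comp ω) (germₗ P (hx J h)) ω l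
  rw [this]
  exact Function.bijective_id

/-- The pullback of a coherent module to a locally Noetherian scheme is coherent. -/
theorem isCoh_pullback {G : Y.Modules} (hG : Coh.IsCoh G) :
    Coh.IsCoh ((Scheme.Modules.pullback f).obj G) := by
  haveI : Coh.IsQCoh G := hG.1
  haveI : Coh.IsQCoh ((Scheme.Modules.pullback f).obj G) := isQCoh_pullback f G
  refine CohClosedPush.isCoh_of_finite_sections _ fun x => ?_
  obtain ⟨_, ⟨V, hV, rfl⟩, hxV, -⟩ :=
    Y.isBasis_affineOpens.exists_subset_of_mem_open (Set.mem_univ (f x)) isOpen_univ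
  obtain ⟨_, ⟨U, hU, rfl⟩, hxU, hUV⟩ :=
    X.isBasis_affineOpens.exists_subset_of_mem_open (a := x) (show x ∈ f ⁻¹ᵁ V from hxV) (f ⁻¹ᵁ V).2
  refine ⟨U, hxU, hU, ?_⟩
  letI : Algebra Γ(Y, V) Γ(X, U) := (f.appLE V U hUV).hom.toAlgebra
  letI := Module.compHom Γ((Scheme.Modules.pullback f).obj G, U) (f.appLE V U hUV).hom
  haveI : IsScalarTower Γ(Y, V) Γ(X, U) Γ((Scheme.Modules.pullback f).obj G, U) :=
    IsScalarTower.of_algebraMap_smul fun _ _ => rfl
  haveI : Module.Finite Γ(Y, V) Γ(G, V) := Groth.L20.ModStalk.finite_sections G hG hV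
  exact Module.Finite.equiv (isBaseChange_pull f G hV hU hUV).equiv

end Groth.L16.AffineBC
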