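import Groth.Agent.L16.AffineBC.Pullback
import Groth.Prelude.Def_Formal
import Groth.Prelude.Def_Coh
import Mathlib.RingTheory.IsTensorProduct
import Mathlib.Algebra.Category.Ring.Constructions

/-!
# Base change of a scheme over an affine base: sections of the pullback
-/

set_option autoImplicit false
set_option linter.style.haveILetI false

universe u

open CategoryTheory CategoryTheory.Limits AlgebraicGeometry TopologicalSpace Opposite
open scoped TensorProduct

noncomputable section

namespace Groth.L16.AffineBC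

open Groth.L18.Frame (rs ro pull)

variable (A : Type u) [CommRing A] (B : Type u) [CommRing B] [Algebra A B] (X : Scheme.{u})
  [X.Over (Spec (CommRingCat.of A))]

/-- `X ×_A B`. -/
abbrev Xb : Scheme.{u} :=
  pullback (X ↘ Spec (CommRingCat.of A)) (Spec.map (CommRingCat.ofHom (algebraMap A B)))

/-- The projection. -/
abbrev gb : Xb A B X ⟶ X := pullback.fst _ _

instance over : (Xb A B X).Over (Spec (CommRingCat.of B)) :=
  ⟨pullback.snd (X ↘ Spec (CommRingCat.of A)) (Spec.map (CommRingCat.ofHom (algebraMap A B)))⟩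

instance isAffineHom_gb : IsAffineHom (gb A B X) := MorphismProperty.pullback_fst _ _ inferInstance

instance isProper_over [IsProper (X ↘ Spec (CommRingCat.of A))] :
    IsProper (Xb A B X ↘ Spec (CommRingCat.of B)) :=
  MorphismProperty.pullback_snd (P := @IsProper) (X ↘ Spec (CommRingCat.of A)) _ inferInstance

variable (F : X.Modules)

/-- `g_* g^* F`. -/
abbrev G : X.Modules := (Coh.push (gb A B X)).obj ((Scheme.Modules.pullback (gb A B X)).obj F)

/-- The unit. -/
abbrev η : F ⟶ G A B X F := (Scheme.Modules.pullbackPushforwardAdjunction (gb A B X)).unit.app F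

/-- Multiplication by an element of `B`. -/
abbrev β (b : B) : G A B X F ⟶ G A B X F :=
  (Coh.push (gb A B X)).map (Formal.smulMod B ((Scheme.Modules.pullback (gb A B X)).obj F) b)

/-- `A` acts on sections through the structure map. -/
abbrev scal (U : X.Opens) : A →+* Γ(X, U) :=
  (X.presheaf.map (homOfLE le_top).op).hom.comp
    ((X ↘ Spec (CommRingCat.of A)).appTop.hom.comp (Scheme.ΓSpecIso (CommRingCat.of A)).inv.hom)

theorem isPushout_sections {U : X.Opens} (hU : IsAffineOpen U) :
    IsPushout (CommRingCat.ofHom (scal A X U)) (CommRingCat.ofHom (algebraMap A B))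
      ((gb A B X).app U) (CommRingCat.ofHom (scal B (Xb A B X) (gb A B X ⁻¹ᵁ U))) := by
  let g := gb A B X
  let U' := g ⁻¹ᵁ U
  haveI : IsAffine U.toScheme := hU
  have hpb : IsPullback (g ∣_ U) (U'.ι ≫ (Xb A B X ↘ Spec (CommRingCat.of B)))
      (U.ι ≫ (X ↘ Spec (CommRingCat.of A))) (Spec.map (CommRingCat.ofHom (algebraMap A B))) :=
    (isPullback_morphismRestrict g U).paste_vert (IsPullback.of_hasPullback _ _)
  refine (isPushout_appTop_of_isPullback hpb).of_iso (Scheme.ΓSpecIso (CommRingCat.of A)) U.topIso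
    (Scheme.ΓSpecIso (CommRingCat.of B)) U'.topIso ?_ ?_ ?_ ?_
  · symm
    rw [← Iso.eq_inv_comp, Scheme.Hom.comp_appTop, Scheme.Opens.ι_appTop, Scheme.Opens.topIso_hom,
      Category.assoc]
    erw [← Functor.map_comp]
    rfl
  · exact Scheme.ΓSpecIso_naturality (CommRingCat.ofHom (algebraMap A B))
  · rw [Scheme.Hom.appTop, morphismRestrict_app', Scheme.Hom.app_eq_appLE, Scheme.Opens.topIso_hom,
      Scheme.Opens.topIso_hom]
    exact (Scheme.Hom.appLE_map g _ _).trans (Scheme.Hom.map_appLE g _ _).symm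
  · symm
    rw [← Iso.eq_inv_comp, Scheme.Hom.comp_appTop, Scheme.Opens.ι_appTop, Scheme.Opens.topIso_hom,
      Category.assoc]
    erw [← Functor.map_comp]
    rfl

/-- Sections of `g_* g^* F` over an affine open: generated freely by the multiples of the unit. -/
theorem exists_equiv [Coh.IsQCoh F] {U : X.Opens} (hU : IsAffineOpen U) :
    letI := Module.compHom Γ(F, U) (scal A X U)
    ∃ E : B ⊗[A] Γ(F, U) ≃+ Γ(G A B X F, U),
      ∀ (b : B) (m : Γ(F, U)), E (b ⊗ₜ m) = (β A B X F b).app U ((η A B X F).app U m) := by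
  letI : Module A Γ(F, U) := Module.compHom Γ(F, U) (scal A X U)
  let g := gb A B X
  let U' := g ⁻¹ᵁ U
  let P := (Scheme.Modules.pullback g).obj F
  letI : Algebra A Γ(X, U) := (scal A X U).toAlgebra
  letI : Algebra B Γ(Xb A B X, U') := (scal B (Xb A B X) U').toAlgebra
  letI : Algebra Γ(X, U) Γ(Xb A B X, U') := (g.appLE U U' le_rfl).hom.toAlgebra
  letI : Algebra A Γ(Xb A B X, U') := ((scal B (Xb A B X) U').comp (algebraMap A B)).toAlgebra
  haveI : IsScalarTower A B Γ(Xb A B X, U') := IsScalarTower.of_algebraMap_eq fun _ => rfl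
  have hpo := isPushout_sections A B X hU
  haveI : IsScalarTower A Γ(X, U) Γ(Xb A B X, U') := IsScalarTower.of_algebraMap_eq fun a => by
    show scal B (Xb A B X) U' (algebraMap A B a) = g.appLE U U' le_rfl (scal A X U a)
    rw [← Scheme.Hom.app_eq_appLE]
    exact (ConcreteCategory.congr_hom hpo.w a).symm
  haveI : IsScalarTower A Γ(X, U) Γ(F, U) := IsScalarTower.of_algebraMap_smul fun _ _ => rfl
  haveI : Algebra.IsPushout A B Γ(X, U) Γ(Xb A B X, U') := by
    refine CommRingCat.isPushout_iff_isPushout.1 ?_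
    have : CommRingCat.ofHom (algebraMap Γ(X, U) Γ(Xb A B X, U')) = g.app U :=
      g.app_eq_appLE.symm
    rw [this]
    exact hpo.flip
  letI : Module Γ(X, U) Γ(P, U') := Module.compHom Γ(P, U') (g.appLE U U' le_rfl).hom
  haveI : IsScalarTower Γ(X, U) Γ(Xb A B X, U') Γ(P, U') := IsScalarTower.of_algebraMap_smul fun _ _ => rfl
  have hbc := isBaseChange_pull g F hU (hU.preimage g) (le_rfl : U' ≤ g ⁻¹ᵁ U)
  let E : B ⊗[A] Γ(F, U) ≃+ Γ(P, U') :=
    (Algebra.IsPushout.cancelBaseChange A B Γ(X, U) Γ(Xb A B X, U') Γ(F, U)).symm.toAddEquiv.trans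
      hbc.equiv.toAddEquiv
  refine ⟨E, fun b m => ?_⟩
  show hbc.equiv ((Algebra.IsPushout.cancelBaseChange A B Γ(X, U) Γ(Xb A B X, U') Γ(F, U)).symm (b ⊗ₜ m)) = _
  rw [Algebra.IsPushout.cancelBaseChange_symm_tmul, IsBaseChange.equiv_tmul]
  show algebraMap B Γ(Xb A B X, U') b • rs P le_rfl (pull g F U m) = _
  rw [Groth.L18.Frame.rs_self]
  exact (Coh.smulAb_app P (Coh.toGlobal (Xb A B X ↘ Spec (CommRingCat.of B)) b) (op U') _).symm

end Groth.L16.AffineBC
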